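import Groth.Prelude.Def_BlowUp2
import Groth.Agent.AssPointLib.Basic
import Mathlib.AlgebraicGeometry.Noetherian
import Mathlib.AlgebraicGeometry.IdealSheaf.Functorial

/-!
# Effective Cartier ideals: spreading out, the trivial ideal
-/

set_option autoImplicit false

universe u

open CategoryTheory CategoryTheory.Limits AlgebraicGeometry TopologicalSpace Opposite

namespace EffCartLib

variable {X : Scheme.{u}}

theorem isEffCartier_top : BlowUp.IsEffCartierIdeal (⊤ : X.IdealSheafData) := fun x => by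
  obtain ⟨U, hU, hxU⟩ := QCohLib.exists_affine_nhd x
  exact ⟨⟨U, hU⟩, hxU, 1, one_mem _, by rw [Ideal.span_singleton_one]; rfl⟩

/-- Spreading out a principal nonzerodivisor generator from a local ring. -/
theorem exists_nhd [IsLocallyNoetherian X] (D : X.IdealSheafData) (x : X) (U : X.affineOpens)
    (hx : x ∈ U.1) (g : X.presheaf.stalk x) (hg : g ∈ nonZeroDivisors (X.presheaf.stalk x))
    (hD : (D.ideal U).map (X.presheaf.germ U.1 x hx).hom = Ideal.span {g}) :
    ∃ V : X.affineOpens, x ∈ V.1 ∧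
      ∃ f : Γ(X, V.1), f ∈ nonZeroDivisors Γ(X, V.1) ∧ D.ideal V = Ideal.span {f} := by
  classical
  haveI : IsNoetherianRing Γ(X, U.1) := IsLocallyNoetherian.component_noetherian U
  let p := U.2.primeIdealOf ⟨x, hx⟩
  let alg := X.presheaf.algebra_section_stalk (⟨x, hx⟩ : U.1)
  have hloc : IsLocalization.AtPrime (X.presheaf.stalk x) p.asIdeal := U.2.isLocalization_stalk ⟨x, hx⟩
  have hD' : (D.ideal U).map (algebraMap Γ(X, U.1) (X.presheaf.stalk x)) = Ideal.span {g} := hD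
  obtain ⟨⟨⟨a, ha⟩, b⟩, hab⟩ := (IsLocalization.mem_map_algebraMap_iff p.asIdeal.primeCompl
    (X.presheaf.stalk x)).mp (hD' ▸ Ideal.mem_span_singleton_self g :
      g ∈ (D.ideal U).map (algebraMap Γ(X, U.1) (X.presheaf.stalk x)))
  change g * algebraMap _ _ (b : Γ(X, U.1)) = algebraMap _ _ a at hab
  have hbu : IsUnit (algebraMap Γ(X, U.1) (X.presheaf.stalk x) (b : Γ(X, U.1))) :=
    IsLocalization.map_units _ b
  have hspan : (D.ideal U).map (algebraMap Γ(X, U.1) (X.presheaf.stalk x)) =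
      (Ideal.span {a}).map (algebraMap Γ(X, U.1) (X.presheaf.stalk x)) := by
    rw [hD', Ideal.map_span, Set.image_singleton, ← hab, Ideal.span_singleton_mul_right_unit hbu]
  obtain ⟨F, hF⟩ := IsNoetherian.noetherian (D.ideal U)
  obtain ⟨G, hG⟩ := IsNoetherian.noetherian (AssPointLib.ann Γ(X, U.1) a)
  have hk : ∀ c : F, ∃ t, t ∉ p.asIdeal ∧ t * c.1 ∈ Ideal.span {a} := fun c => by
    obtain ⟨⟨⟨d, hd⟩, e⟩, hde⟩ := (IsLocalization.mem_map_algebraMap_iff p.asIdeal.primeCompl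
      (X.presheaf.stalk x)).mp (hspan ▸ Ideal.mem_map_of_mem _ (hF.le (Submodule.subset_span c.2)) :
        algebraMap Γ(X, U.1) (X.presheaf.stalk x) c.1 ∈ _)
    change algebraMap _ _ c.1 * algebraMap _ _ (e : Γ(X, U.1)) = algebraMap _ _ d at hde
    rw [← map_mul] at hde
    obtain ⟨t, ht⟩ := (IsLocalization.eq_iff_exists p.asIdeal.primeCompl (X.presheaf.stalk x)).mp hde
    refine ⟨(t : Γ(X, U.1)) * e, p.2.mul_notMem t.2 e.2, ?_⟩
    rw [show (t : Γ(X, U.1)) * e * c.1 = t * d by rw [← ht]; ring]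
    exact Ideal.mul_mem_left _ _ hd
  have hk' : ∀ c : G, ∃ t, t ∉ p.asIdeal ∧ t * c.1 = 0 := fun c => by
    have hc : c.1 * a = 0 := (AssPointLib.mem_ann _).mp (hG.le (Submodule.subset_span c.2))
    have h0 : algebraMap Γ(X, U.1) (X.presheaf.stalk x) c.1 * g = 0 :=
      hbu.mul_left_eq_zero.mp (by rw [mul_assoc, hab, ← map_mul, hc, map_zero])
    obtain ⟨⟨t, ht⟩, htc⟩ := (IsLocalization.map_eq_zero_iff p.asIdeal.primeCompl (X.presheaf.stalk x) _).mp
      ((mem_nonZeroDivisors_iff_right.mp hg) _ h0)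
    exact ⟨t, ht, htc⟩
  choose t ht htm using hk
  choose t' ht' htm' using hk'
  let T := (∏ c : F, t c) * ∏ c : G, t' c
  have hT : T ∉ p.asIdeal := fun h => by
    rcases p.2.mem_or_mem h with h | h <;> obtain ⟨c, -, hc⟩ := Ideal.IsPrime.prod_mem_iff.mp h
    exacts [ht c hc, ht' c hc]
  let algV : Algebra Γ(X, U.1) Γ(X, X.basicOpen T) := (X.presheaf.map (homOfLE (X.basicOpen_le T)).op).hom.toAlgebra
  have hlocV : IsLocalization.Away T Γ(X, X.basicOpen T) := U.2.isLocalization_basicOpen T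
  have hTu : IsUnit (algebraMap Γ(X, U.1) Γ(X, X.basicOpen T) T) := IsLocalization.Away.algebraMap_isUnit T
  suffices h : algebraMap Γ(X, U.1) Γ(X, X.basicOpen T) a ∈ nonZeroDivisors Γ(X, X.basicOpen T) ∧
      (D.ideal U).map (algebraMap Γ(X, U.1) Γ(X, X.basicOpen T)) =
        Ideal.span {algebraMap Γ(X, U.1) Γ(X, X.basicOpen T) a} from
    ⟨X.affineBasicOpen T, (AssPointLib.mem_basicOpen_iff U.2 hx T).mpr hT, _, h.1,
      (D.map_ideal_basicOpen U T).symm.trans h.2⟩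
  refine ⟨mem_nonZeroDivisors_iff_right.mpr fun z hz => ?_, ?_⟩
  · obtain ⟨c, ⟨_, n, rfl⟩, rfl⟩ := IsLocalization.exists_mk'_eq (Submonoid.powers T) z
    rw [mul_comm, IsLocalization.mul_mk'_eq_mk'_of_mul, IsLocalization.mk'_eq_zero_iff] at hz
    obtain ⟨⟨_, m, rfl⟩, hm⟩ := hz
    refine (IsLocalization.mk'_eq_zero_iff _ _).mpr ⟨⟨_, m + 1, rfl⟩, ?_⟩
    have hmem : T ^ m * c ∈ AssPointLib.ann Γ(X, U.1) a := by
      rw [AssPointLib.mem_ann, smul_eq_mul]
      have hm' : T ^ m * (a * c) = 0 := hm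
      linear_combination hm'
    have key : ∀ e ∈ AssPointLib.ann Γ(X, U.1) a, T * e = 0 := by
      intro e he
      rw [← hG] at he
      refine Submodule.span_induction (fun y hy => ?_) (mul_zero _) (fun u v _ _ hu hv => by rw [mul_add, hu, hv, add_zero])
        (fun r u _ hu => by rw [smul_eq_mul, mul_left_comm, hu, mul_zero]) he
      obtain ⟨d, hd⟩ := Finset.dvd_prod_of_mem t' (Finset.mem_univ (⟨y, hy⟩ : G))
      rw [show T * y = (∏ c : F, t c) * d * (t' ⟨y, hy⟩ * y) by simp only [T]; rw [hd]; ring,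
        htm', mul_zero]
    have := key _ hmem
    change T ^ (m + 1) * c = 0
    linear_combination this
  · refine le_antisymm ?_ ((Ideal.span_singleton_le_iff_mem _).mpr (Ideal.mem_map_of_mem _ ha))
    rw [← hF, Ideal.map_span, Ideal.span_le]
    rintro _ ⟨y, hy, rfl⟩
    obtain ⟨d, hd⟩ := Finset.dvd_prod_of_mem t (Finset.mem_univ (⟨y, hy⟩ : F))
    obtain ⟨e, he⟩ := Ideal.mem_span_singleton.mp (htm ⟨y, hy⟩)
    refine (hTu.dvd_mul_left.mp ?_ |> Ideal.mem_span_singleton.mpr)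
    refine ⟨algebraMap _ _ (d * (∏ c : G, t' c) * e), ?_⟩
    rw [← map_mul, ← map_mul]
    congr 1
    simp only [T]; rw [hd]
    linear_combination (d * ∏ c : G, t' c) * he

/-- A stalkwise principal ideal generated by nonzerodivisors is effective Cartier. -/
theorem isEffCartier_of_stalk [IsLocallyNoetherian X] (D : X.IdealSheafData)
    (h : ∀ x ∈ D.support, ∀ (U : X.affineOpens) (hx : x ∈ (U : X.Opens)),
      ∃ g : X.presheaf.stalk x, g ∈ nonZeroDivisors (X.presheaf.stalk x) ∧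
        (D.ideal U).map (X.presheaf.germ U x hx).hom = Ideal.span {g}) :
    BlowUp.IsEffCartierIdeal D := by
  intro x
  obtain ⟨U, hU, hxU⟩ := QCohLib.exists_affine_nhd x
  by_cases hxD : x ∈ D.support
  · obtain ⟨g, hg, he⟩ := h x hxD ⟨U, hU⟩ hxU
    exact exists_nhd D x ⟨U, hU⟩ hxU g hg he
  · refine exists_nhd D x ⟨U, hU⟩ hxU 1 (one_mem _) ?_
    rw [Ideal.span_singleton_one]
    rw [Scheme.IdealSheafData.mem_support_iff_of_mem (U := ⟨U, hU⟩) hxU, Scheme.mem_zeroLocus_iff] at hxD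
    simp only [not_forall, SetLike.mem_coe, not_not] at hxD
    obtain ⟨a, haI, hxa⟩ := hxD
    exact Ideal.eq_top_of_isUnit_mem _ (Ideal.mem_map_of_mem _ haI) ((X.mem_basicOpen a x hxU).mp hxa)

/-- The blow-up is an isomorphism away from the centre. -/
theorem isIso_off_center {X' : Scheme.{u}} (𝓘 : X.IdealSheafData) (b : X' ⟶ X) (hb : BlowUp.IsBlowUp b 𝓘)
    (U : X.Opens) (hU : U ≤ 𝓘.support.compl) : IsIso (b ∣_ U) := by
  have htop : ∀ {Y : Scheme.{u}} (g : Y ⟶ U), 𝓘.comap (g ≫ U.ι) = ⊤ := fun {Y} g => by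
    rw [← Scheme.IdealSheafData.support_eq_bot_iff, Scheme.IdealSheafData.support_comap]
    refine SetLike.ext fun y => ?_
    refine iff_of_false (fun hy => ?_) (fun hy => hy)
    exact hU (show U.ι (g y) ∈ U from (g y).2) hy
  have hcart : ∀ {Y : Scheme.{u}} (g : Y ⟶ U), BlowUp.IsEffCartierIdeal (𝓘.comap (g ≫ U.ι)) :=
    fun g => htop g ▸ isEffCartier_top
  obtain ⟨h, hh, -⟩ := hb.2 U (𝟙 _ ≫ U.ι) (hcart (𝟙 _))
  rw [Category.id_comp] at hh
  have hr : Set.range h ⊆ Set.range (b ⁻¹ᵁ U).ι := by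
    rintro _ ⟨y, rfl⟩
    rw [Scheme.Opens.range_ι]
    change (h ≫ b) y ∈ U
    rw [hh]
    exact y.2
  let s : (U : Scheme.{u}) ⟶ (b ⁻¹ᵁ U : X'.Opens) := IsOpenImmersion.lift (b ⁻¹ᵁ U).ι h hr
  have hs : s ≫ (b ⁻¹ᵁ U).ι = h := IsOpenImmersion.lift_fac _ _ hr
  refine ⟨s, ?_, ?_⟩
  · rw [← cancel_mono (b ⁻¹ᵁ U).ι, Category.assoc, hs, Category.id_comp]
    obtain ⟨k, -, huniq⟩ := hb.2 _ ((b ∣_ U) ≫ U.ι) (hcart _)
    exact (huniq _ (by change ((b ∣_ U) ≫ h) ≫ b = _; rw [Category.assoc, hh])).trans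
      (huniq _ (by change (b ⁻¹ᵁ U).ι ≫ b = _; rw [morphismRestrict_ι])).symm
  · rw [← cancel_mono U.ι, Category.assoc, morphismRestrict_ι, ← Category.assoc, hs, hh,
      Category.id_comp]

end EffCartLib
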